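import Mathlib.CategoryTheory.Monoidal.CoherenceLemmas
import Mathlib.CategoryTheory.Preadditive.Basic

/-!
# Two formal lemmas

* `unit_end_comm`: endomorphisms of the unit of a monoidal category commute.
* `isIso_of_retraction`: let `R : C ⥤ D`, `τ : R L ⟶ K` such that `g ↦ R g ≫ τ` is bijective on
  `Hom(N, L)`, where `N ≅ L` (in some way) and `R N ≅ K` has a commutative endomorphism monoid.  Then
  `φ : N ⟶ L` is an isomorphism as soon as `R φ` has a retraction.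
-/

set_option autoImplicit false

open CategoryTheory MonoidalCategory

namespace Groth.Agent.Dual.H311.AbsIso

universe v v' u u'

/-- Endomorphisms of the unit of a monoidal category commute. -/
theorem unit_end_comm {C : Type u} [Category.{v} C] [MonoidalCategory C] (f g : 𝟙_ C ⟶ 𝟙_ C) :
    f ≫ g = g ≫ f := by
  have h := whisker_exchange f g
  rw [id_whiskerLeft, whiskerRight_id, unitors_equal, unitors_inv_equal] at h
  simp only [Category.assoc, Iso.inv_hom_id_assoc] at h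
  have h2 := (cancel_epi (ρ_ (𝟙_ C)).hom).1 h
  simp only [← Category.assoc] at h2
  exact ((cancel_mono (ρ_ (𝟙_ C)).inv).1 h2).symm

variable {C : Type u} [Category.{v} C] {D : Type u'} [Category.{v'} D]

/-- Commutativity of endomorphisms is invariant under isomorphism. -/
theorem end_comm_of_iso {X Y : D} (e : X ≅ Y) (h : ∀ a b : X ⟶ X, a ≫ b = b ≫ a) (a b : Y ⟶ Y) :
    a ≫ b = b ≫ a := by
  have h1 := h (e.hom ≫ a ≫ e.inv) (e.hom ≫ b ≫ e.inv)
  simp only [Category.assoc, Iso.inv_hom_id_assoc] at h1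
  have h2 := (cancel_epi e.hom).1 h1
  simp only [← Category.assoc] at h2
  exact (cancel_mono e.inv).1 h2

theorem isIso_of_retraction (R : C ⥤ D) {N L : C} (e : N ≅ L) {K : D} (τ : R.obj L ⟶ K)
    (hτ : Function.Bijective (fun g : N ⟶ L => R.map g ≫ τ)) (q : R.obj N ≅ K)
    (hcomm : ∀ a b : R.obj N ⟶ R.obj N, a ≫ b = b ≫ a) (φ : N ⟶ L) (r : R.obj L ⟶ R.obj N)
    (hr : R.map φ ≫ r = 𝟙 _) : IsIso φ := by
  obtain ⟨g', hg'⟩ := hτ.2 q.hom
  dsimp only at hg'
  -- `t' = R e ≫ τ` is an isomorphism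
  have h1 : R.map (g' ≫ e.inv) ≫ (R.map e.hom ≫ τ ≫ q.inv) = 𝟙 _ := by
    rw [← R.map_comp_assoc, Category.assoc, e.inv_hom_id, Category.comp_id, ← Category.assoc, hg',
      q.hom_inv_id]
  have h2 : (R.map e.hom ≫ τ ≫ q.inv) ≫ R.map (g' ≫ e.inv) = 𝟙 _ := by rw [hcomm, h1]
  have ht : IsIso (R.map e.hom ≫ τ ≫ q.inv) := ⟨R.map (g' ≫ e.inv), h2, h1⟩
  have ht' : IsIso (R.map e.hom ≫ τ) := by
    have : R.map e.hom ≫ τ = (R.map e.hom ≫ τ ≫ q.inv) ≫ q.hom := by simp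
    rw [this]
    infer_instance
  -- injectivity on endomorphisms of `N`
  have hinj : ∀ a b : N ⟶ N, R.map a = R.map b → a = b := by
    intro a b hab
    have : a ≫ e.hom = b ≫ e.hom := hτ.1 (by
      dsimp only
      rw [R.map_comp, R.map_comp, hab])
    exact (cancel_mono e.hom).1 this
  -- `R (φ ≫ e.inv)` is invertible
  have h3 : R.map (φ ≫ e.inv) ≫ (R.map e.hom ≫ r) = 𝟙 _ := by
    rw [← R.map_comp_assoc, Category.assoc, e.inv_hom_id, Category.comp_id, hr]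
  have h4 : (R.map e.hom ≫ r) ≫ R.map (φ ≫ e.inv) = 𝟙 _ := by rw [hcomm, h3]
  -- lift the inverse
  obtain ⟨ψ, hψ⟩ := hτ.2 ((R.map e.hom ≫ r) ≫ (R.map e.hom ≫ τ))
  dsimp only at hψ
  have h5 : R.map (ψ ≫ e.inv) = R.map e.hom ≫ r := by
    rw [← cancel_mono (R.map e.hom ≫ τ), ← hψ, ← R.map_comp_assoc, Category.assoc, e.inv_hom_id,
      Category.comp_id]
  have h6 : (φ ≫ e.inv) ≫ (ψ ≫ e.inv) = 𝟙 N := hinj _ _ (by
    rw [R.map_comp, h5, h3, R.map_id])
  have h7 : (ψ ≫ e.inv) ≫ (φ ≫ e.inv) = 𝟙 N := hinj _ _ (by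
    rw [R.map_comp, h5, h4, R.map_id])
  have h8 : IsIso (φ ≫ e.inv) := ⟨_, h6, h7⟩
  have h9 : φ = (φ ≫ e.inv) ≫ e.hom := by simp
  rw [h9]
  infer_instance

end Groth.Agent.Dual.H311.AbsIso
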