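import Groth.Agent.PerfA.Restrict
import Groth.Agent.Dual.H311.AbsIso
import Groth.Agent.Dcoh.MonCat

/-!
# Local detection of zero objects and isomorphisms; endomorphisms of `O_X` in `D(O_X)` commute
-/

set_option autoImplicit false

universe u

open CategoryTheory CategoryTheory.Limits AlgebraicGeometry

attribute [local instance] HasDerivedCategory.standard

namespace Groth.Agent.Dual.H311.Detect

open Groth.Agent.PerfA.Restrict

variable {X : Scheme.{u}}

/-- Zero objects of `D(O_X)` are detected by a family of open immersions covering `X`. -/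
theorem isZero_of_cover (K : DCoh.D X)
    (h : ∀ x : X, ∃ (U : Scheme.{u}) (j : U ⟶ X) (_ : IsOpenImmersion j) (y : U), j y = x ∧
      IsZero ((restrictD j).obj K)) : IsZero K := by
  rw [Groth.Agent.PerfA.ExactD.isZero_iff]
  intro i
  refine isZero_of_restrict _ fun x => ?_
  obtain ⟨U, j, hj, y, hy, hU⟩ := h x
  exact ⟨U, j, hj, y, hy, (Functor.map_isZero (DerivedCategory.homologyFunctor _ i) hU).of_iso
    (HDrestrict j K i).symm⟩

/-- Isomorphisms of `D(O_X)` are detected by a family of open immersions covering `X`. -/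
theorem isIso_of_cover {K L : DCoh.D X} (φ : K ⟶ L)
    (h : ∀ x : X, ∃ (U : Scheme.{u}) (j : U ⟶ X) (_ : IsOpenImmersion j) (y : U), j y = x ∧
      IsIso ((restrictD j).map φ)) : IsIso φ := by
  rw [DerivedCategory.isIso_iff]
  intro i
  refine isIso_of_restrict _ fun x => ?_
  obtain ⟨U, j, hj, y, hy, hU⟩ := h x
  refine ⟨U, j, hj, y, hy, ?_⟩
  exact (NatIso.isIso_map_iff (Groth.Agent.PerfA.ExactD.mapHomology
    (Scheme.Modules.restrictFunctor j) i) φ).1
    (inferInstanceAs (IsIso ((DerivedCategory.homologyFunctor _ i).map ((restrictD j).map φ))))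

/-- `IsLE` is detected by a family of open immersions covering `X`. -/
theorem isLE_of_cover (K : DCoh.D X) (n : ℤ)
    (h : ∀ x : X, ∃ (U : Scheme.{u}) (j : U ⟶ X) (_ : IsOpenImmersion j) (y : U), j y = x ∧
      ((restrictD j).obj K).IsLE n) : K.IsLE n := by
  rw [DerivedCategory.isLE_iff]
  intro i hi
  refine isZero_of_restrict _ fun x => ?_
  obtain ⟨U, j, hj, y, hy, hU⟩ := h x
  exact ⟨U, j, hj, y, hy, (((restrictD j).obj K).isZero_of_isLE n i hi).of_iso
    (HDrestrict j K i).symm⟩

/-- Every point of a scheme is in the image of `hV.fromSpec` for an affine open `V`. -/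
theorem exists_affine (x : X) : ∃ (V : X.Opens) (hV : IsAffineOpen V) (y : Spec Γ(X, V)),
    hV.fromSpec y = x := by
  obtain ⟨_, ⟨V, hV, rfl⟩, hxV, -⟩ := X.isBasis_affineOpens.exists_subset_of_mem_open
    (show x ∈ ((⊤ : X.Opens) : Set X) from trivial) (⊤ : X.Opens).isOpen
  have h1 : x ∈ Set.range hV.fromSpec := by
    rw [hV.range_fromSpec]
    exact hxV
  obtain ⟨y, hy⟩ := h1
  exact ⟨V, hV, y, hy⟩

open scoped Groth.Agent.Dcoh.MonCat in
/-- Endomorphisms of `O_X` commute. -/
theorem end_structureModule_comm (a b : Coh.structureModule X ⟶ Coh.structureModule X) :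
    a ≫ b = b ≫ a :=
  AbsIso.unit_end_comm (C := X.Modules) a b

/-- Endomorphisms of `O_X` in `D(O_X)` commute. -/
theorem end_inD_comm (a b : DCoh.inD X (Coh.structureModule X) ⟶
    DCoh.inD X (Coh.structureModule X)) : a ≫ b = b ≫ a := by
  obtain ⟨a', rfl⟩ := (DerivedCategory.singleFunctor X.Modules 0).map_surjective a
  obtain ⟨b', rfl⟩ := (DerivedCategory.singleFunctor X.Modules 0).map_surjective b
  rw [← Functor.map_comp, ← Functor.map_comp, end_structureModule_comm]

end Groth.Agent.Dual.H311.Detect
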