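import Groth.Agent.LoccohB.LTXInst
import Groth.Agent.PerfC.LTXRestr
import Groth.Agent.Dcoh.DerPull2

/-!
# Restriction of `Lπ^*(-) ⊗ᴸ E` to an open on which `E` is `O[n]`

If `j : U ⟶ P` is an open immersion, `j ≫ π = f` and `E|_U ≅ O_U[n]`, then
`(Lπ^* K ⊗ᴸ E)|_U ≅ (Lf^* K)[n]`, naturally in `K ∈ D(O_Y)`.
-/

set_option autoImplicit false

universe u

open CategoryTheory CategoryTheory.Limits AlgebraicGeometry

attribute [local instance] HasDerivedCategory.standard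

namespace Groth.Agent.Dual.H311.Glue

open Groth.Agent.PerfC.DTens Groth.Agent.PerfC.LTXRestr Groth.Agent.PerfC.LpullTens
  Groth.Agent.Dcoh.DerPull

variable {U P Y : Scheme.{u}}

/-- `O[n] ⊗ᴸ K ≅ K[n]`, naturally in `K`. -/
theorem nonempty_shiftUnit (X : Scheme.{u}) (n : ℤ) :
    Nonempty ((LTX X).obj ((DCoh.inD X (Coh.structureModule X))⟦n⟧) ≅
      shiftFunctor (DCoh.D X) n) := by
  obtain ⟨e⟩ := Groth.Agent.LoccohB.LTXInst.nonempty_shift (DCoh.inD X (Coh.structureModule X)) n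
  let e0 : DCoh.inD X (Coh.structureModule X) ≅ DerivedCategory.Q.obj (unitCx X) :=
    (DerivedCategory.singleFunctorIsoCompQ X.Modules 0).app (Coh.structureModule X)
  let e1 : (LTX X).obj (DCoh.inD X (Coh.structureModule X)) ≅ 𝟭 (DCoh.D X) :=
    (LTX X).mapIso e0 ≪≫ ((symmIso X).symm.app _) ≪≫ unitIso X
  exact ⟨e ≪≫ Functor.isoWhiskerRight e1 _ ≪≫ Functor.leftUnitor _⟩

/-- `(- ⊗ᴸ E)|_U ≅ (-)|_U [n]` if `E|_U ≅ O_U[n]`. -/
theorem nonempty_restrict (j : U ⟶ P) [IsOpenImmersion j] (n : ℤ)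
    (E : CochainComplex P.Modules ℤ) [DCoh.HasLTensorCx E]
    (hE : Nonempty ((DCoh.restrictD j).obj (DCoh.toD P E) ≅
      (DCoh.inD U (Coh.structureModule U))⟦n⟧)) :
    Nonempty (DCoh.LTensorCx E ⋙ DCoh.restrictD j ≅
      DCoh.restrictD j ⋙ shiftFunctor (DCoh.D U) n) := by
  obtain ⟨eE⟩ := hE
  obtain ⟨e⟩ := nonempty_shiftUnit U n
  let e1 : DCoh.LTensorCx E ≅ (LTX P).obj (DCoh.toD P E) :=
    (LTXcx E).symm ≪≫ (symmIso P).app _
  exact ⟨Functor.isoWhiskerRight e1 _ ≪≫ restrTensRight j (DCoh.toD P E) ≪≫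
    Functor.isoWhiskerLeft _ ((LTX U).mapIso eE ≪≫ e)⟩

/-- The restriction of `Lπ^*(-) ⊗ᴸ E`. -/
theorem nonempty_lpull_restrict (j : U ⟶ P) [IsOpenImmersion j] (π : P ⟶ Y) (f : U ⟶ Y)
    (w : j ≫ π = f) [DCoh.HasLpull π] [DCoh.HasLpull f] (n : ℤ)
    (E : CochainComplex P.Modules ℤ) [DCoh.HasLTensorCx E]
    (hE : Nonempty ((DCoh.restrictD j).obj (DCoh.toD P E) ≅
      (DCoh.inD U (Coh.structureModule U))⟦n⟧)) :
    Nonempty (DCoh.Lpull π ⋙ DCoh.LTensorCx E ⋙ DCoh.restrictD j ≅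
      DCoh.Lpull f ⋙ shiftFunctor (DCoh.D U) n) := by
  obtain ⟨e⟩ := nonempty_restrict j n E hE
  have := hasLpull j
  have := hasLpull (j ≫ π)
  let e1 : DCoh.Lpull π ⋙ DCoh.restrictD j ≅ DCoh.Lpull f :=
    Functor.isoWhiskerLeft _ (lpullOpenIso j).symm ≪≫ lpullCompIso j π ≪≫ lpullCongr w
  exact ⟨Functor.isoWhiskerLeft _ e ≪≫ (Functor.associator _ _ _).symm ≪≫
    Functor.isoWhiskerRight e1 _⟩

end Groth.Agent.Dual.H311.Glue
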