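import Groth.Agent.Sga4B.P1Geom441
import Groth.Agent.Sga67.ProjKoszul
import Groth.Agent.PerfA.PerfLocal
import Groth.Prelude.Def_DEt2

/-!
# The compactification `P^1_Y` of `𝔸^1_Y`, and the restriction of `O(d)` to `𝔸^1_Y`

* `comp Y : DEt.Compactification (𝔸(ULift (Fin 1); Y) ↘ Y)`, with `Xbar = CohB1.ProjSpaceOver 1 Y`;
* `nonempty_restrict_twist`: `O(d)|_{𝔸^1} ≅ O(d + 1)|_{𝔸^1}`, `O(-2)|_{𝔸^1} ≅ O`.
-/

set_option autoImplicit false

universe u

open CategoryTheory CategoryTheory.Limits AlgebraicGeometry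

attribute [local instance] HasDerivedCategory.standard

namespace Groth.Agent.Dual.H311.P1Geo

open Groth.Agent.Sga4B.P1Geom (v v_toBase range_v)
open Groth.Agent.Sga67.ProjKoszul

/-- `P^1_Y` as a compactification of the affine line. -/
noncomputable def comp (Y : Scheme.{u}) :
    DEt.Compactification (AffineSpace (ULift.{u} (Fin 1)) Y ↘ Y) where
  Xbar := CohB1.ProjSpaceOver 1 Y
  j := v Y 0
  fbar := CohB1.ProjSpaceOver.toBase 1 Y
  isOpenImmersion := inferInstance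
  isProper := inferInstance
  fac := v_toBase Y 0

theorem isIso_restrict_of_le {X W : Scheme.{u}} (j : W ⟶ X) [IsOpenImmersion j] {M N : X.Modules}
    (φ : M ⟶ N) (V : X.Opens) (hj : j.opensRange ≤ V)
    [IsIso ((Scheme.Modules.restrictFunctor V.ι).map φ)] :
    IsIso ((Scheme.Modules.restrictFunctor j).map φ) := by
  rw [Scheme.Modules.Hom.isIso_iff_isIso_app]
  intro U
  rw [ConcreteCategory.isIso_iff_bijective]
  exact bijective_of_isIso_restrict φ V (j ''ᵁ U) ((j.image_le_opensRange U).trans hj)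

/-- Multiplication by the coordinate `T_0` is invertible on the chart. -/
theorem isIso_restrict_opS (Y : Scheme.{u}) (i : ℤ) :
    IsIso ((Scheme.Modules.restrictFunctor (v Y 0)).map (opS 1 Y 0 i)) := by
  let V : (CohB1.ProjSpace 1 (ULift.{u} ℤ)).Opens :=
    Proj.basicOpen (CohB1.polyGrading 1 (ULift.{u} ℤ)) (MvPolynomial.X 0)
  have h1 := isIso_restrict_of_bijective (opZ.{u} 1 0 i) V
    (fun U hU => PerfB.TwistMul.mulT_app_bijective
    (𝒜 := CohB1.polyGrading 1 (ULift.{u} ℤ)) (k := 1)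
    ⟨MvPolynomial.X 0, MvPolynomial.isHomogeneous_X _ _⟩ i (i + 1) (by push_cast; ring) U hU)
  have h2 : IsIso ((Scheme.Modules.restrictFunctor (toZ 1 Y ⁻¹ᵁ V).ι).map (opS 1 Y 0 i)) :=
    isIso_restrict_pullback (toZ 1 Y) (opZ.{u} 1 0 i) V
  refine isIso_restrict_of_le (v Y 0) (opS 1 Y 0 i) (toZ 1 Y ⁻¹ᵁ V) ?_
  intro x hx
  have h3 : x ∈ Set.range (v Y 0) := hx
  rw [range_v] at h3
  exact h3

theorem nonempty_restrict_twist (Y : Scheme.{u}) (i : ℤ) :
    Nonempty ((Twist.twistOver 1 Y i).restrict (v Y 0) ≅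
      (Twist.twistOver 1 Y (i + 1)).restrict (v Y 0)) := by
  have := isIso_restrict_opS Y i
  exact ⟨asIso ((Scheme.Modules.restrictFunctor (v Y 0)).map (opS 1 Y 0 i))⟩

/-- `O(-2)` is trivial on the affine line. -/
theorem nonempty_restrict_neg_two (Y : Scheme.{u}) :
    Nonempty ((Twist.twistOver 1 Y (-2)).restrict (v Y 0) ≅
      (Coh.structureModule (CohB1.ProjSpaceOver 1 Y)).restrict (v Y 0)) := by
  obtain ⟨e1⟩ := nonempty_restrict_twist Y (-2)
  obtain ⟨e2⟩ := nonempty_restrict_twist Y (-1)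
  obtain ⟨e3⟩ := Sga67.TwistOver.nonempty_twistOver_zero 1 Y
  exact ⟨e1 ≪≫ e2 ≪≫ (Scheme.Modules.restrictFunctor (v Y 0)).mapIso e3⟩

end Groth.Agent.Dual.H311.P1Geo
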