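import Mathlib.Algebra.Homology.DerivedCategory.SingleTriangle
import Mathlib.Algebra.Homology.ShortComplex.HomologicalComplex
import Mathlib.Algebra.Homology.ShortComplex.ShortExact
import Mathlib.CategoryTheory.Preadditive.Biproducts
import Mathlib.CategoryTheory.Triangulated.Functor

/-!
# Acyclic complexes with three terms, and the resulting isomorphism in the derived category
-/

set_option autoImplicit false

universe w v u v' u'

open CategoryTheory CategoryTheory.Limits Pretriangulated

namespace Groth.Agent.Dual.H311.SES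

variable {A : Type u} [Category.{v} A] [Abelian A]

/-- An acyclic complex concentrated in degrees `0, 1, 2` is a short exact sequence. -/
theorem exists_shortExact (K : CochainComplex A ℤ) (h : ∀ i, K.ExactAt i) (h1 : IsZero (K.X (-1)))
    (h3 : IsZero (K.X 3)) :
    ∃ w : K.d 0 1 ≫ K.d 1 2 = 0, (ShortComplex.mk (K.d 0 1) (K.d 1 2) w).ShortExact := by
  refine ⟨K.d_comp_d 0 1 2, ?_⟩
  have e0 := (K.exactAt_iff' (-1) 0 1 (by simp) (by simp)).1 (h 0)
  have e1 := (K.exactAt_iff' 0 1 2 (by simp) (by simp)).1 (h 1)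
  have e2 := (K.exactAt_iff' 1 2 3 (by simp) (by simp)).1 (h 2)
  have m : Mono (K.d 0 1) := ((K.sc' (-1) 0 1).exact_iff_mono (h1.eq_of_src _ _)).1 e0
  have e : Epi (K.d 1 2) := ((K.sc' 1 2 3).exact_iff_epi (h3.eq_of_tgt _ _)).1 e2
  exact { exact := e1, mono_f := m, epi_g := e }

/-- A biproduct of zero objects is zero. -/
theorem isZero_biproduct {C : Type u'} [Category.{v'} C] [HasZeroMorphisms C] {J : Type}
    (f : J → C) [HasBiproduct f] (h : ∀ j, IsZero (f j)) : IsZero (⨁ f) := by
  rw [IsZero.iff_id_eq_zero]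
  exact biproduct.hom_ext _ _ fun j => (h j).eq_of_tgt _ _

/-- An additive functor killing `M` kills all biproducts of copies of `M`. -/
theorem isZero_map_biproduct {C : Type u'} [Category.{v'} C] [Preadditive C] (F : A ⥤ C)
    [F.Additive] {J : Type} [Finite J] (f : J → A) [HasBiproduct f]
    (h : ∀ j, IsZero (F.obj (f j))) : IsZero (F.obj (⨁ f)) := by
  classical
  have := Fintype.ofFinite J
  rw [IsZero.iff_id_eq_zero, ← F.map_id, ← biproduct.total, F.map_sum]
  refine Finset.sum_eq_zero fun j _ => ?_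
  rw [F.map_comp, (h j).eq_of_tgt (F.map (biproduct.π f j)) 0, zero_comp]

variable [HasDerivedCategory.{w} A] {D : Type u'} [Category.{v'} D] [HasZeroObject D] [HasShift D ℤ]
  [Preadditive D] [∀ n : ℤ, (shiftFunctor D n).Additive] [Pretriangulated D]

/-- If `0 → A → B → C → 0` is exact and `F B = 0` then `F C ≅ F (A[1])`. -/
theorem nonempty_iso (F : DerivedCategory A ⥤ D) [F.CommShift ℤ] [F.IsTriangulated]
    {S : ShortComplex A} (hS : S.ShortExact)
    (hB : IsZero (F.obj ((DerivedCategory.singleFunctor A 0).obj S.X₂))) :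
    Nonempty (F.obj (((DerivedCategory.singleFunctor A 0).obj S.X₁)⟦(1 : ℤ)⟧) ≅
      F.obj ((DerivedCategory.singleFunctor A 0).obj S.X₃)) := by
  have h1 := F.map_distinguished _ hS.singleTriangle_distinguished
  have h2 : IsIso (F.mapTriangle.obj hS.singleTriangle).mor₃ :=
    (Triangle.isZero₂_iff_isIso₃ _ h1).1 hB
  exact ⟨((F.commShiftIso (1 : ℤ)).app _) ≪≫ (@asIso _ _ _ _ _ h2).symm⟩

end Groth.Agent.Dual.H311.SES
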